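import Cfsg.Agent.H983.ElG.KFin
import Cfsg.Agent.H56.Exc.Fac
import Cfsg.Agent.H899.Cyc.CycOut

/-!
# Subgroups of `G₂(q)` of index prime to the classes 3 and 6: other forms (helper983)

* `full_g2` : `kfull_G2` in every universe;
* `kfull_chevG2` : the form `KFull` for `q ≥ 5`;
* `iGap_g2` : the form `IGap`.
-/

set_option autoImplicit false

namespace Cfsg.Agent.H983.KG2

open Cfsg Cfsg.Lie Cfsg.Agent.OrdDiv Cfsg.Agent.H436 Cfsg.Agent.H915.GN Cfsg.Agent.H56.Exc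

universe u

variable {p f : ℕ}

/-- the name of `G₂(q)` -/
theorem named_g2 {F : Type} [Field F] [Fintype F] {q : ℕ} (hF : Fintype.card F = q) (h3 : 3 ≤ q) (hq : IsPrimePow q) :
    IsNamed (.g2 q) ↥(chevG2.group F) := by
  refine IsNamed.mk' ⟨F, inferInstance, inferInstance, hF, ⟨MulEquiv.refl _⟩⟩ ⟨h3, hq⟩ ?_
  have h := Cfsg.Agent.S1059.result hF
  show 1 * _ = q ^ 6 * ((q ^ 2 - 1) * (q ^ 6 - 1))
  rw [one_mul, h]
  ring

/-- the primes of the two classes are cyclic -/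
theorem cyc_g2 (hp : p.Prime) (hf : 1 ≤ f) {T : Type u} [Group T] [Finite T] [IsSimpleGroup T]
    (hna : ¬ ∀ a b : T, a * b = b * a) (hT : IsNamed (.g2 (p ^ f)) T) {r : ℕ}
    (hr : Prim (p ^ f) 3 r ∨ Prim (p ^ f) 6 r) (hrf : ¬ r ∣ f) : H899.CG.Cyc T r := by
  obtain ⟨F, _, _, hF, ⟨e⟩⟩ := hT.real
  have hT' : IsNamed (.g2 (p ^ f)) ↥(chevG2.group F) := named_g2 hF hT.cond.1 hT.cond.2
  have D := dat_of hT' hp hf
  have hq : 1 ≤ p ^ f := Nat.one_le_pow _ _ hp.pos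
  obtain ⟨m, hb, hd⟩ : ∃ m, Big ↥(chevG2.group F) r m 6 ∧ r ∣ Nat.card ↥(chevG2.group F) := by
    rcases hr with h | h
    · exact ⟨_, D.b3 r h, D.hyp.h3 r h hrf⟩
    · exact ⟨_, D.b6 r h, D.hyp.h6 r h hrf⟩
  have hbT := hb.congr e.symm
  have h5 : 5 ≤ r := by
    rcases hr with h | h
    · exact Cfsg.Agent.H264.FKS.five_le_of_prim le_rfl h
    · exact Cfsg.Agent.H264.FKS.five_le_of_prim (by norm_num) h
  refine H899.CG.cyc_of_weak hna hp hT ⟨f, rfl⟩ h5 ((H899.CG.ndf_iff hp hf).2 hrf) trivial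
    ⟨hb.prime, by rw [Nat.card_congr e.toEquiv]; exact hd, fun x y hx hy hc => ?_⟩
  have h1 : x ∈ Subgroup.centralizer ({x} : Set T) := by rw [Subgroup.mem_centralizer_singleton_iff]
  have h2 : y ∈ Subgroup.centralizer ({x} : Set T) := Subgroup.mem_centralizer_singleton_iff.2 hc.symm
  exact mem_zpowers_of_cyclic (hbT.cyc x hx) h1 h2 (by rw [hx, hy])

section

variable (hnm : ∀ (S : Type) [Group S] [Finite S] [IsSimpleGroup S], ¬ IsMulCommutative S → ∃ g, IsNamed g S)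

include hnm

/-- **The K theorem for `G₂(q)` in every universe.** -/
theorem full_g2 (hp : p.Prime) (hf : 1 ≤ f) {T : Type u} [Group T] (hT : IsNamed (.g2 (p ^ f)) T) {M : Subgroup T}
    (hM : ∀ r, (Prim (p ^ f) 3 r ∨ Prim (p ^ f) 6 r) → ¬ r ∣ f → ¬ r ∣ M.index) :
    M = ⊤ ∨ ((p ^ f = 3 ∨ p ^ f = 4) ∧ Nat.card M = 1092 ∧ OrdDiv.Real (.psl 2 13) M) := by
  obtain ⟨F, _, _, hF, ⟨e⟩⟩ := hT.real
  have hT' : IsNamed (.g2 (p ^ f)) ↥(chevG2.group F) := named_g2 hF hT.cond.1 hT.cond.2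
  have hidx : (M.map e.toMonoidHom).index = M.index := Subgroup.index_map_equiv M e
  rcases kfull_G2 hnm hp hf hT' (M := M.map e.toMonoidHom) (by rw [hidx]; exact hM) with h | ⟨h1, h2, h3⟩
  · left
    rw [← Subgroup.index_eq_one] at h ⊢
    rwa [hidx] at h
  · right
    have e2 : M ≃* M.map e.toMonoidHom := M.equivMapOfInjective e.toMonoidHom e.injective
    obtain ⟨F', i1, i2, hF', ⟨e3⟩⟩ := h3
    exact ⟨h1, by rw [Nat.card_congr e2.toEquiv]; exact h2, F', i1, i2, hF', ⟨e2.trans e3⟩⟩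

/-- **The form `KFull`, `q ≥ 5`.** -/
theorem kfull_chevG2 (hp : p.Prime) (hf : f ≠ 0) (h5 : 5 ≤ p ^ f) {F : Type} [Field F] [Fintype F]
    (hF : Fintype.card F = p ^ f) : KFull ↥(chevG2.group F) fun r => Prim (p ^ f) 3 r ∨ Prim (p ^ f) 6 r := by
  intro M hM
  rcases kfull_G2 hnm hp (by omega) (named_g2 hF (by omega) (hp.isPrimePow.pow hf)) (M := M)
      (fun r hr _ => hM r hr) with h | ⟨h1, -, -⟩
  · exact h
  · omega

/-- the same for the small fields -/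
theorem kfull_chevG2' (hp : p.Prime) (hf : f ≠ 0) (h3 : 3 ≤ p ^ f) {F : Type} [Field F] [Fintype F]
    (hF : Fintype.card F = p ^ f) (M : Subgroup ↥(chevG2.group F))
    (hM : ∀ r, (Prim (p ^ f) 3 r ∨ Prim (p ^ f) 6 r) → ¬ r ∣ M.index) :
    M = ⊤ ∨ ((p ^ f = 3 ∨ p ^ f = 4) ∧ Nat.card M = 1092 ∧ OrdDiv.Real (.psl 2 13) M) :=
  kfull_G2 hnm hp (by omega) (named_g2 hF h3 (hp.isPrimePow.pow hf)) (fun r hr _ => hM r hr)

/-- **The form `IGap`.** -/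
theorem iGap_g2 (hp : p.Prime) (hf : 1 ≤ f) {T : Type u} [Group T] [Finite T] [IsSimpleGroup T]
    (hna : ¬ ∀ a b : T, a * b = b * a) (hT : IsNamed (.g2 (p ^ f)) T) {M : Subgroup T} (hM : M ≠ ⊤) :
    H899.CG.IGap T M ∨ ((p ^ f = 3 ∨ p ^ f = 4) ∧ Nat.card M = 1092 ∧ OrdDiv.Real (.psl 2 13) M) := by
  by_contra hcon
  push Not at hcon
  rcases full_g2 hnm hp hf hT (M := M) (fun r hr hrf hd => hcon.1 ⟨r, cyc_g2 hp hf hna hT hr hrf, hd⟩) with h | h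
  · exact hM h
  · exact hcon.2 h.1 h.2.1 h.2.2

end

end Cfsg.Agent.H983.KG2
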