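import Cfsg.Agent.H983.ElG.KMain

/-!
# Subgroups of `G₂(q)` of index prime to the classes 3 and 6: the main theorem (helper983)

* `kfull_G2` : `T ≅ G₂(q)`, `q = p ^ f ≥ 3`, `M ≤ T` such that no primitive prime divisor of `q³ - 1` or `q⁶ - 1`
  prime to `f` divides `|T : M|`: `M = T`, or `q = 3, 4` and `M ≅ L₂(13)`;
* `kfull_chevG2` : the form `KFull` for `q ≥ 5`.
-/

set_option autoImplicit false

namespace Cfsg.Agent.H983.KG2

open Cfsg Cfsg.Lie Cfsg.Agent.OrdDiv Cfsg.Agent.H436 Cfsg.Agent.H902 Cfsg.Agent.H902.Names Cfsg.Agent.H915.GN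
  Cfsg.Agent.H290.ElReg Cfsg.Agent.H264.FKS Cfsg.Agent.H563.KG Cfsg.Agent.H56.Exc
open Cfsg.Agent.H946.Num Cfsg.Agent.H946.Rad

variable {p f : ℕ}

/-- the reduced family of a subgroup -/
theorem red_M {T : Type} [Group T] [Finite T] (D : Dat T p f) {M : Subgroup T} (H : Hyp p f (Nat.card M)) :
    Red M (Pr (B p f)) ∧ RFam M (B p f) := by
  have hp := D.hp
  have hf := D.hf
  have hq : 1 ≤ p ^ f := Nat.one_le_pow _ _ hp.pos
  obtain ⟨r3, p3, n3⟩ := exists_cl hp hf D.h3q (Or.inl rfl)
  obtain ⟨r6, p6, n6⟩ := exists_cl hp hf D.h3q (Or.inr rfl)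
  constructor
  · refine red_of' (p := p) cycFixSolv ?_ (prB.2 ⟨Or.inl p3, n3⟩) p3.prime (H.h3 r3 p3 n3)
      ((D.b3 r3 p3).subgroup M).cyc ?_
    · exact pcore_of_piso ((D.iso r3 p3).sub M) (H.h3 r3 p3 n3)
    · intro t ht htp hnt A hA hAc hAt
      exact no_elem D H ht htp (fun h => hnt (prB.2 h)) A hA hAc hAt
  · refine ⟨?_, ?_, ?_⟩
    · rintro r m e ⟨⟨h, rfl⟩ | ⟨h, rfl⟩, -, rfl⟩
      · exact (D.b3 r h).subgroup M
      · exact (D.b6 r h).subgroup M
    · rintro r m e ⟨⟨h, rfl⟩ | ⟨h, rfl⟩, hn, rfl⟩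
      · exact H.h3 r h hn
      · exact H.h6 r h hn
    · have h76 : ∀ {r : ℕ}, r.Prime → 7 ≤ r → ¬ r ∣ 6 := fun hr h7 h => by
        have := Nat.le_of_dvd (by norm_num) h
        omega
      have s3 : 7 ≤ r3 := seven_le p3.prime (by
        rintro rfl
        have := prim_lt hq (by omega) p3
        omega) (Or.inl (prim_N3 hq p3))
      have s6 : 7 ≤ r6 := by
        have := prim_lt hq (by omega) p6
        omega
      rintro r m e ⟨⟨h, rfl⟩ | ⟨h, rfl⟩, -, rfl⟩ hcon
      · rcases p6.prime.dvd_mul.1 ((H.h6 r6 p6 n6).trans hcon) with h1 | h1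
        · exact h76 p6.prime s6 h1
        · exact three_of p6.prime h1 (prim_N6 hq p6)
      · rcases p3.prime.dvd_mul.1 ((H.h3 r3 p3 n3).trans hcon) with h1 | h1
        · exact h76 p3.prime s3 h1
        · exact three_of p3.prime (prim_N3 hq p3) h1

/-- the simple normal subgroup -/
theorem exists_S {T : Type} [Group T] [Finite T] (D : Dat T p f) {M : Subgroup T} (H : Hyp p f (Nat.card M)) :
    ∃ S : Subgroup M, S.Normal ∧ IsSimpleGroup S ∧ ¬ IsMulCommutative S ∧ Subgroup.centralizer (S : Set M) = ⊥ ∧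
      Hyp p f (Nat.card S) ∧ (∀ r m, Cl p f r → Big M r m 6 → Big S r m 6) := by
  obtain ⟨hred, hfam⟩ := red_M D H
  obtain ⟨r3, p3, n3⟩ := exists_cl D.hp D.hf D.h3q (Or.inl rfl)
  obtain ⟨S, hSn, hs, hna, hall⟩ := hfam.exists_full cycFixSolv hred (r₁ := r3) ⟨Or.inl ⟨p3, rfl⟩, n3, rfl⟩
  refine ⟨S, hSn, hs, hna, ?_, ?_, fun r m _ h => h.subgroup S⟩
  · by_contra hne
    obtain ⟨r, ⟨m, e, hr⟩, hrC⟩ := hred.exists_dvd (N := Subgroup.centralizer (S : Set M)) inferInstance hne
    have hb := hfam.big r m e hr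
    have := Fact.mk hb.prime
    obtain ⟨x, hx⟩ := exists_prime_orderOf_dvd_card' r hrC
    have hx' : orderOf (x : M) = r := by rw [Subgroup.orderOf_coe, hx]
    have hcyc := hb.cyc _ hx'
    apply hna
    refine ⟨⟨fun a b => ?_⟩⟩
    have hin : ∀ a : S, (a : M) ∈ Subgroup.centralizer ({(x : M)} : Set M) := fun a => by
      rw [Subgroup.mem_centralizer_singleton_iff]
      exact (Subgroup.mem_centralizer_iff.1 x.2 a a.2)
    let _ := IsCyclic.commGroup (α := ↥(Subgroup.centralizer ({(x : M)} : Set M)))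
    have h1 : (⟨a, hin a⟩ : ↥(Subgroup.centralizer ({(x : M)} : Set M))) * ⟨b, hin b⟩ = ⟨b, hin b⟩ * ⟨a, hin a⟩ :=
      mul_comm _ _
    have h2 : (a : M) * (b : M) = (b : M) * (a : M) := congrArg Subtype.val h1
    exact Subtype.ext h2
  · refine H.of_index D.hp D.hf (S.card_mul_index).symm fun r hr => ?_
    obtain ⟨m, e, hB⟩ := prB.2 hr
    exact (hall r m e hB).2.2.1

/-- **Subgroups of `G₂(q)` containing the tori of the classes 3 and 6.** -/
theorem kfull_G2 (hnm : ∀ (S : Type) [Group S] [Finite S] [IsSimpleGroup S], ¬ IsMulCommutative S → ∃ g, IsNamed g S)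
    (hp : p.Prime) (hf : 1 ≤ f) {T : Type} [Group T] [Finite T] (hT : IsNamed (.g2 (p ^ f)) T) {M : Subgroup T}
    (hM : ∀ r, (Prim (p ^ f) 3 r ∨ Prim (p ^ f) 6 r) → ¬ r ∣ f → ¬ r ∣ M.index) :
    M = ⊤ ∨ ((p ^ f = 3 ∨ p ^ f = 4) ∧ Nat.card M = 1092 ∧ OrdDiv.Real (.psl 2 13) M) := by
  have D := dat_of hT hp hf
  have h3q := D.h3q
  have hq : 1 ≤ p ^ f := by omega
  have HM : Hyp p f (Nat.card M) := D.hyp.of_index hp hf (M.card_mul_index).symm fun r hr => hM r hr.1 hr.2
  obtain ⟨S, hSn, hSs, hna, hC, HS, hbS⟩ := exists_S D HM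
  obtain ⟨g, hg⟩ := hnm S hna
  obtain ⟨r3, p3, n3⟩ := exists_cl hp hf h3q (Or.inl rfl)
  obtain ⟨r6, p6, n6⟩ := exists_cl hp hf h3q (Or.inr rfl)
  have hd : Nat.card S ∣ OL .G2 (p ^ f) := by
    rw [← D.card]
    exact (Subgroup.card_subgroup_dvd_card S).trans (Subgroup.card_subgroup_dvd_card M)
  have hna' : ¬ ∀ a b : S, a * b = b * a := fun h => hna ⟨⟨h⟩⟩
  rcases Cfsg.Agent.H192.Singer.cases_name hg.cond with ⟨m, rfl⟩ | hsp | ⟨l, hl, hch⟩
  · exfalso
    obtain ⟨k, hk⟩ := Nat.dvd_of_mod_eq_zero (mod_of_prim (by omega) (by norm_num) p3)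
    obtain ⟨k', hk'⟩ := Nat.dvd_of_mod_eq_zero (mod_of_prim (by omega) (by norm_num) p6)
    have hr3 := p3.prime.two_le
    have hr6 := p6.prime.two_le
    have ho3 := p3.odd (by norm_num)
    have hne : r3 ≠ r6 := fun h => by have := (h ▸ p3).unique p6; omega
    obtain ⟨e'⟩ := hg.real
    have h9 : 5 ≤ m := hg.cond
    have hb3 := ((D.b3 r3 p3).subgroup M).subgroup S
    have hb6 := ((D.b6 r6 p6).subgroup M).subgroup S
    have key : ∀ {r s m' e : ℕ}, Big S r m' e → s.Prime → 5 ≤ r → r + 4 ≤ s → r ∣ Nat.card S → s ∣ Nat.card S →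
        False := fun {r s m' e} hb hs h5 h4 hdr hds => by
      refine Cfsg.Agent.H290.ElRich.not_alt hb.prime hs h5 h4 (by omega) e' hdr hds (fun x hx => ?_)
      have := hb.cyc x hx
      let _ := IsCyclic.commGroup (α := ↥(Subgroup.centralizer ({x} : Set S)))
      infer_instance
    rcases Nat.lt_or_gt_of_ne hne with h | h
    · exact key hb3 p6.prime (by omega) (by omega) (HS.h3 r3 p3 n3) (HS.h6 r6 p6 n6)
    · exact key hb6 p3.prime (by omega) (by omega) (HS.h6 r6 p6 n6) (HS.h3 r3 p3 n3)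
  · exfalso
    have h1 := Cfsg.Agent.H192.Singer.spor_mem hsp
    have h2 : Nat.card S = ordN g := hg.ord
    rw [h2] at HS hd
    exact no_spor h1 hp hf h3q HS hd
  · by_cases hpl : p = l
    · subst hpl
      left
      have hiso : H325.Loc.PIso p r3 S := ((D.iso r3 p3).sub M).sub S
      rcases charp_g2' hp hf (by rintro ⟨rfl, rfl⟩; norm_num at h3q) hg.cond hch hg.eq
          (Cfsg.Agent.H264.FKS.IsNamed.card_dvd hT S) HS.h3 HS.h6 with h | h | h
      · subst h
        exact eq_top_of_name hT hg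
      · exfalso
        subst h
        exact H325.Same.kill_psl2 hp hg p3 hiso
      · exfalso
        obtain ⟨rfl, rfl, rfl⟩ := h
        have p7 : Prim (2 ^ 2) 3 7 := prim_c3 (q := 2 ^ 2) (by norm_num) (by norm_num) (by decide)
        exact H325.Same.kill_sz8 hg (((D.iso 7 p7).sub M).sub S)
    · right
      obtain ⟨X, f₁, h1, h2, -⟩ := exists_lie hl hg hch
      obtain ⟨F, _, hcF, hFth⟩ := D.fth
      have hlF : (l : F) ≠ 0 := by
        intro h
        exact hpl ((Nat.prime_dvd_prime_iff_eq hp hl).1 ((CharP.cast_eq_zero_iff F p l).1 h))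
      have h3 := lb_le hna' (by norm_num) ((hFth.sub M.subtype M.subtype_injective).sub S.subtype S.subtype_injective)
        h1 hg.real h2 hlF
      rcases no_cross h2 h3 hp hf h3q hpl HS hd with ⟨h34, rfl, rfl, rfl⟩ | ⟨h4, rfl, rfl, rfl⟩
      · -- `L₂(13)`
        refine ⟨h34, ?_⟩
        have hgr : OrdDiv.Real (.psl 2 13) S := by
          have hgr := hg.real
          cases h1
          simpa using hgr
        obtain ⟨ha, hc⟩ := aut13 hgr
        have hb : ∃ m, m ∣ 21 ∧ Big M 7 m 6 := by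
          rcases h34 with h | h
          · have p7 : Prim (p ^ f) 6 7 := by
              rw [h]; exact prim_c6 (by norm_num) (by norm_num) (by decide)
            have := (D.b6 7 p7).subgroup M
            rw [h] at this
            exact ⟨_, by decide, this⟩
          · have p7 : Prim (p ^ f) 3 7 := by
              rw [h]; exact prim_c3 (by norm_num) (by norm_num) (by decide)
            have := (D.b3 7 p7).subgroup M
            rw [h] at this
            exact ⟨_, by decide, this⟩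
        obtain ⟨m, hm, hb⟩ := hb
        have hd1 : Nat.card M ∣ 2184 := by
          rw [← ha]
          exact H290.ElEng.card_dvd_aut hC
        have hd2 := S.card_mul_index
        rw [hc] at hd2
        have hidx : S.index = 1 ∨ S.index = 2 := by
          have h5 : 1092 * S.index ∣ 1092 * 2 := hd2 ▸ hd1
          exact (Nat.dvd_prime Nat.prime_two).1 (Nat.dvd_of_mul_dvd_mul_left (by norm_num) h5)
        rcases hidx with h5 | h5
        · have h6 : Nat.card M = 1092 := by rw [← hd2, h5]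
          refine ⟨h6, ?_⟩
          have h7 : S = ⊤ := Subgroup.index_eq_one.1 h5
          obtain ⟨F', i1, i2, hF', ⟨e⟩⟩ := hgr
          subst h7
          exact ⟨F', i1, i2, hF', ⟨(Subgroup.topEquiv (G := M)).symm.trans e⟩⟩
        · exfalso
          exact card_ne hb hm (by rw [← hd2, h5])
      · exfalso
        have hgr : OrdDiv.Real (.psl 2 27) S := by
          have hgr := hg.real
          cases h1
          simpa using hgr
        obtain ⟨y, hy⟩ := psl27 hgr
        have p7 : Prim (p ^ f) 3 7 := by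
          rw [h4]; exact prim_c3 (by norm_num) (by norm_num) (by decide)
        have hb := ((D.b3 7 p7).subgroup M).subgroup S
        rw [h4] at hb
        have hy2 : orderOf (y ^ 2) = 7 := by
          rw [orderOf_pow' y (by norm_num), hy]
          decide
        have h5 := hb.card (y ^ 2) hy2
        have h6 : y ∈ Subgroup.centralizer ({y ^ 2} : Set S) := by
          rw [Subgroup.mem_centralizer_singleton_iff]
          exact (Commute.pow_right (Commute.refl y) 2).eq
        have h7 : 2 * 7 ∣ Nat.card ↥(Subgroup.centralizer ({y ^ 2} : Set S)) := by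
          rw [← hy, ← Subgroup.orderOf_mk y h6]
          exact orderOf_dvd_natCard _
        have h8 := h7.trans h5
        revert h8
        decide

end Cfsg.Agent.H983.KG2
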