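import Cfsg.Agent.H983.ElG.RowD4
import Cfsg.Agent.H983.GThreeL
import Cfsg.Agent.H278.ElDefs

/-!
# TEAM ELUSIVE, the rows `G₂(q)` and `³D₄(q)` (helper983)

* `der_g2`, `der_td4` : every proper subgroup `R` of `T` misses an `Aut T`-class of elements of prime order
  (`H396.Der T R`);
* `clT_g2`, `clT_td4` : the core form.
-/

set_option autoImplicit false

namespace Cfsg.Agent.H983.ElG

open Cfsg Cfsg.Agent.OrdDiv Cfsg.Agent.H290.ElEng Cfsg.Agent.H290.ElRich
open Cfsg.Agent.H436 (IsNamed)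
open Cfsg.Agent.H264.FKS (Full)
open Cfsg.Agent.H396 (Der)

theorem der_of_not_full {T : Type*} [Group T] [Finite T] {R : Subgroup T} (h : ¬ Full T R) : Der T R := by
  obtain ⟨r, hr, hd, hn⟩ := H264.FKS.exists_of_not_full h
  exact H396.der_of_prime hr hd hn

/-- **`G₂(q)`.** -/
theorem der_g2 (has : ASThm.{0}) (hrf : RichFix.{0})
    (hnm : ∀ (S : Type) [Group S] [Finite S] [IsSimpleGroup S], ¬ IsMulCommutative S → ∃ g, IsNamed g S)
    {q : ℕ} {T : Type} [Group T] [Finite T] (hT : IsNamed (.g2 q) T) {R : Subgroup T} (hR : R ≠ ⊤) : Der T R := by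
  by_contra hn
  obtain ⟨p, f, hp, hf, rfl⟩ := (isPrimePow_nat_iff _).1 hT.cond.2
  rcases full_G2 has hrf hnm hp hf hT (R := R) (by
    by_contra h
    exact hn (der_of_not_full h)) with h | ⟨h3, S, h4, h5, h6, h7, h8⟩
  · exact hR h
  · have hr := hT.real
    rw [h3] at hr
    exact hn (H983.GThree.der_psl hr S h6 h7 h8)

/-- **`³D₄(q)`.** -/
theorem der_td4 (has : ASThm.{0}) (hrf : RichFix.{0})
    (hnm : ∀ (S : Type) [Group S] [Finite S] [IsSimpleGroup S], ¬ IsMulCommutative S → ∃ g, IsNamed g S)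
    {q : ℕ} {T : Type} [Group T] [Finite T] (hT : IsNamed (.td4 q) T) {R : Subgroup T} (hR : R ≠ ⊤) : Der T R := by
  by_contra hn
  obtain ⟨p, f, hp, hf, rfl⟩ := (isPrimePow_nat_iff _).1 hT.cond
  exact hR (full_TD4 has hrf hnm hp hf hT (R := R) (by
    by_contra h
    exact hn (der_of_not_full h)))

theorem clT_g2 (has : ASThm.{0}) (hrf : RichFix.{0})
    (hnm : ∀ (S : Type) [Group S] [Finite S] [IsSimpleGroup S], ¬ IsMulCommutative S → ∃ g, IsNamed g S)
    {q : ℕ} {T : Type} [Group T] [Finite T] (hT : IsNamed (.g2 q) T) : H278.El.ClT T := fun _ hR =>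
  Or.inl (H278.El.Der.derT (der_g2 has hrf hnm hT hR))

theorem clT_td4 (has : ASThm.{0}) (hrf : RichFix.{0})
    (hnm : ∀ (S : Type) [Group S] [Finite S] [IsSimpleGroup S], ¬ IsMulCommutative S → ∃ g, IsNamed g S)
    {q : ℕ} {T : Type} [Group T] [Finite T] (hT : IsNamed (.td4 q) T) : H278.El.ClT T := fun _ hR =>
  Or.inl (H278.El.Der.derT (der_td4 has hrf hnm hT hR))

end Cfsg.Agent.H983.ElG
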