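import Cfsg.Agent.H946.RadG2

/-!
# `G₂(q)`: the parts of `q² ± q + 1` prime to 3 (helper983)

* `c3 q`, `c6 q` : the parts of `q² + q + 1` and `q² - q + 1` prime to 3; their primes are the primitive ones;
* `lt_c` : `q⁴ < 3 c3 c6`.
-/

set_option autoImplicit false

namespace Cfsg.Agent.H983.KG2

open Cfsg.Agent.H946.Num Cfsg.Agent.H946.Rad
open Cfsg.Agent.H436 (Prim exists_prim)

/-- the part of `q ^ 2 + q + 1` prime to 3 -/
def c3 (q : ℕ) : ℕ := N3 q / Nat.gcd 3 (N3 q)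

/-- the part of `q ^ 2 - q + 1` prime to 3 -/
def c6 (q : ℕ) : ℕ := N6 q / Nat.gcd 3 (N6 q)

theorem c3_mul (q : ℕ) : Nat.gcd 3 (N3 q) * c3 q = N3 q := Nat.mul_div_cancel' (Nat.gcd_dvd_right _ _)
theorem c6_mul (q : ℕ) : Nat.gcd 3 (N6 q) * c6 q = N6 q := Nat.mul_div_cancel' (Nat.gcd_dvd_right _ _)

theorem c3_dvd (q : ℕ) : c3 q ∣ N3 q := Dvd.intro_left _ (c3_mul q)
theorem c6_dvd (q : ℕ) : c6 q ∣ N6 q := Dvd.intro_left _ (c6_mul q)

theorem N36 (q : ℕ) : N3 q * N6 q = q ^ 4 + q ^ 2 + 1 := by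
  zify
  rw [cast_N6]
  unfold N3
  push_cast
  ring

theorem nine3 (q : ℕ) : ¬ 9 ∣ N3 q := by
  intro h
  unfold N3 at h
  have h1 : (q ^ 2 + q + 1) % 9 = 0 := Nat.mod_eq_zero_of_dvd h
  have h2 : q % 9 < 9 := Nat.mod_lt _ (by norm_num)
  rw [Nat.add_mod, Nat.add_mod (q ^ 2), Nat.pow_mod] at h1
  interval_cases (q % 9) <;> norm_num at h1

theorem nine6 (q : ℕ) : ¬ 9 ∣ N6 q := by
  intro h
  have h0 : (9 : ℤ) ∣ (q : ℤ) ^ 2 - q + 1 := by
    rw [← cast_N6]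
    exact_mod_cast h
  have h1 : ((q : ℤ) ^ 2 - q + 1) % 9 = 0 := Int.emod_eq_zero_of_dvd h0
  have h2 : 0 ≤ (q : ℤ) % 9 := Int.emod_nonneg _ (by norm_num)
  have h3 : (q : ℤ) % 9 < 9 := Int.emod_lt_of_pos _ (by norm_num)
  have h4 : ((q : ℤ) ^ 2 - q + 1) % 9 = (((q : ℤ) % 9) ^ 2 - (q : ℤ) % 9 + 1) % 9 := by
    apply Int.ModEq.symm
    exact ((((Int.mod_modEq _ _).pow 2).sub (Int.mod_modEq _ _)).add_right 1)
  rw [h4] at h1
  interval_cases ((q : ℤ) % 9) <;> norm_num at h1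

theorem gcd3 {n : ℕ} : Nat.gcd 3 n = 1 ∨ (Nat.gcd 3 n = 3 ∧ 3 ∣ n) := by
  rcases (Nat.dvd_prime Nat.prime_three).1 (Nat.gcd_dvd_left 3 n) with h | h
  · exact Or.inl h
  · exact Or.inr ⟨h, h ▸ Nat.gcd_dvd_right 3 n⟩

theorem not_three_c3 (q : ℕ) : ¬ 3 ∣ c3 q := by
  intro h
  rcases gcd3 (n := N3 q) with h1 | ⟨h1, h2⟩
  · have h3 := c3_mul q
    rw [h1, one_mul] at h3
    rw [h3] at h
    have : 3 ∣ Nat.gcd 3 (N3 q) := Nat.dvd_gcd dvd_rfl h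
    rw [h1] at this
    omega
  · have h3 := c3_mul q
    rw [h1] at h3
    apply nine3 q
    rw [← h3]
    exact Nat.mul_dvd_mul_left 3 h

theorem not_three_c6 (q : ℕ) : ¬ 3 ∣ c6 q := by
  intro h
  rcases gcd3 (n := N6 q) with h1 | ⟨h1, h2⟩
  · have h3 := c6_mul q
    rw [h1, one_mul] at h3
    rw [h3] at h
    have : 3 ∣ Nat.gcd 3 (N6 q) := Nat.dvd_gcd dvd_rfl h
    rw [h1] at this
    omega
  · have h3 := c6_mul q
    rw [h1] at h3
    apply nine6 q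
    rw [← h3]
    exact Nat.mul_dvd_mul_left 3 h

/-- primitivity from the order -/
theorem prim_of_order {q e r : ℕ} (hr : r.Prime) (hq : 1 ≤ q) (he : 0 < e) (h : orderOf ((q : ℕ) : ZMod r) = e) :
    Prim q e r := by
  have := Fact.mk hr
  refine ⟨hr, fun m => ?_, fun hd => ?_⟩
  · rw [← h, orderOf_dvd_iff_pow_eq_one, ← ZMod.natCast_eq_zero_iff, Nat.cast_sub (Nat.one_le_pow _ _ hq)]
    push_cast
    exact sub_eq_zero
  · rw [← ZMod.natCast_eq_zero_iff] at hd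
    rw [hd, orderOf_eq_zero_iff'.2 fun n hn => by rw [zero_pow (by omega)]; exact zero_ne_one] at h
    omega

theorem prim_c3 {q r : ℕ} (hq : 1 ≤ q) (hr : r.Prime) (h : r ∣ c3 q) : Prim q 3 r :=
  prim_of_order hr hq (by norm_num) (od_N3 hr (h.trans (c3_dvd q)) fun h3 => not_three_c3 q (h3 ▸ h))

theorem prim_c6 {q r : ℕ} (hq : 1 ≤ q) (hr : r.Prime) (h : r ∣ c6 q) : Prim q 6 r :=
  prim_of_order hr hq (by norm_num) (od_N6 hr (h.trans (c6_dvd q)) fun h3 => not_three_c6 q (h3 ▸ h))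

theorem dvd_c3 {q r : ℕ} (hq : 1 ≤ q) (h : Prim q 3 r) : r ∣ c3 q := by
  have h1 := prim_N3 hq h
  rw [← c3_mul q] at h1
  rcases h.prime.dvd_mul.1 h1 with h2 | h2
  · exfalso
    have h3 := prim_lt hq (by norm_num) h
    have := Nat.le_of_dvd (by norm_num) (h2.trans (Nat.gcd_dvd_left _ _))
    omega
  · exact h2

theorem dvd_c6 {q r : ℕ} (hq : 1 ≤ q) (h : Prim q 6 r) : r ∣ c6 q := by
  have h1 := prim_N6 hq h
  rw [← c6_mul q] at h1
  rcases h.prime.dvd_mul.1 h1 with h2 | h2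
  · exfalso
    have h3 := prim_lt hq (by norm_num) h
    have := Nat.le_of_dvd (by norm_num) (h2.trans (Nat.gcd_dvd_left _ _))
    omega
  · exact h2

theorem coprime_c (q : ℕ) : (c3 q).Coprime (c6 q) := by
  refine Nat.coprime_of_dvd fun k hk h1 h2 => ?_
  exact cop36 hk (fun h3 => not_three_c3 q (h3 ▸ h1)) (h1.trans (c3_dvd q)) (h2.trans (c6_dvd q))

theorem lt_c (q : ℕ) : q ^ 4 < 3 * (c3 q * c6 q) := by
  have h1 := N36 q
  rw [← c3_mul q, ← c6_mul q] at h1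
  have h2 : Nat.gcd 3 (N3 q) * Nat.gcd 3 (N6 q) ≤ 3 := by
    rcases gcd3 (n := N3 q) with h3 | ⟨h3, h4⟩
    · rw [h3, one_mul]
      exact Nat.le_of_dvd (by norm_num) (Nat.gcd_dvd_left _ _)
    · rcases gcd3 (n := N6 q) with h5 | ⟨h5, h6⟩
      · rw [h3, h5]
      · exfalso
        obtain ⟨k1, k2⟩ := three_dvd q
        have h7 : q % 3 = 0 ∨ q % 3 = 1 ∨ q % 3 = 2 := by omega
        rcases h7 with h7 | h7 | h7
        · unfold N3 at h4
          have h8 : (q ^ 2 + q + 1) % 3 = 0 := Nat.mod_eq_zero_of_dvd h4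
          rw [Nat.add_mod, Nat.add_mod (q ^ 2), Nat.pow_mod, h7] at h8
          norm_num at h8
        · exact (k1 h7).2 h6
        · exact (k2 h7).2 h4
  have h3 : Nat.gcd 3 (N3 q) * Nat.gcd 3 (N6 q) * (c3 q * c6 q) ≤ 3 * (c3 q * c6 q) := Nat.mul_le_mul_right _ h2
  have h4 : Nat.gcd 3 (N3 q) * c3 q * (Nat.gcd 3 (N6 q) * c6 q) =
      Nat.gcd 3 (N3 q) * Nat.gcd 3 (N6 q) * (c3 q * c6 q) := by ring
  omega

/-- for `f ≤ 6` the primitive primes do not divide `f` -/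
theorem not_dvd_f {q e r f : ℕ} (hq : 1 ≤ q) (he : e = 3 ∨ e = 6) (h : Prim q e r) (hf : 1 ≤ f) (hf6 : f ≤ 6) :
    ¬ r ∣ f := by
  intro hd
  have h1 : 7 ≤ r := by
    rcases he with rfl | rfl
    · refine seven_le h.prime ?_ (Or.inl (prim_N3 hq h))
      rintro rfl
      have := prim_lt hq (by omega) h
      omega
    · have := prim_lt hq (by omega) h
      omega
  have := Nat.le_of_dvd hf hd
  omega

end Cfsg.Agent.H983.KG2
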